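import Cfsg.Agent.Chevalley.Bruhat

/-!
The root coordinate of a cell: `B n_{sv} B = X_α n_s (B n_v B)` with `X_α` free, and the elements
moving all fundamental positive root elements into `B`.
-/

set_option autoImplicit false

namespace CfsgLib.ChevSubfield

open Cfsg.Lie CfsgLib CfsgLib.Chevalley
open scoped MatrixGroups

variable {D : ChevalleyDatum} {C : Weyl.Cert D.rank} {M : CoxeterMatrix (Fin D.rank)}
  {R : Weyl.RootTable} {F : Type*} [Field F]

theorem simple_mul_cancel_left (i : Fin D.rank) (w : M.Group) :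
    M.simple i * (M.simple i * w) = w := by
  rw [← mul_assoc, show M.simple i * M.simple i = 1 from
    M.toCoxeterSystem.simple_mul_simple_self i, one_mul]

/-- The coordinate along `α_i` of a coset in the upper cell is determined. -/
theorem coord_unique (hW : GoodWeyl D) (h : Weyl.RootGood C M R) {i : Fin D.rank} {v : M.Group}
    (hv : GoesUp hW h i v) {t t' : F} {c c' : GL D.Idx F} (hc : c ∈ cell hW h F v)
    (hc' : c' ∈ cell hW h F v)
    (e : X hW.good (pRoot hW i) t * nR hW i * c = X hW.good (pRoot hW i) t' * nR hW i * c') :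
    t = t' := by
  by_contra hne
  have hd : t' - t ≠ 0 := sub_ne_zero.2 (Ne.symm hne)
  obtain ⟨k, hk, hk'⟩ := exists_nR_inv_eq (F := F) hW i
  set u := Units.mk0 _ hd with hu
  have e1 := nR_conj_X_pRoot hW i u
  have hc2 : c = (nR hW i)⁻¹ * X hW.good (pRoot hW i) (t' - t) * nR hW i * c' := by
    rw [sub_eq_neg_add, ← X_mul, ← X_inv]
    calc c = (nR hW i)⁻¹ * (X hW.good (pRoot hW i) t)⁻¹ *
          (X hW.good (pRoot hW i) t * nR hW i * c) := by group
      _ = _ := by rw [e]; group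
  have hy : c ∈ cell hW h F (M.simple i * v) := by
    have e2 : c = k * X hW.good (pRoot hW i) (-((u⁻¹ : Fˣ) : F)) * hT F (pRoot hW i) u⁻¹ *
        (nR hW i * (X hW.good (pRoot hW i) (-((u⁻¹ : Fˣ) : F)) * k⁻¹ * c')) := by
      have hk2 : k = (nR hW i)⁻¹ * (nR hW i)⁻¹ := eq_mul_inv_of_mul_eq hk'.symm
      calc c = k * (nR hW i * X hW.good (pRoot hW i) (u : F) * (nR hW i)⁻¹) * k⁻¹ * c' := by
            rw [hc2, hk2, hu, Units.val_mk0]; group
        _ = _ := by rw [e1]; group
    rw [e2]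
    refine borel_mul_mem_cell hW h (mul_mem (mul_mem (diag_le_borel D hk)
      (X_pRoot_mem_borel hW i _)) (diag_le_borel D (hT_mem_diagonal hW _ _))) ?_
    obtain ⟨b, hb, b', hb', rfl⟩ := hc'
    rw [show nR hW i * (X hW.good (pRoot hW i) (-((u⁻¹ : Fˣ) : F)) * k⁻¹ *
      (b * nW hW h F v * b')) = nR hW i * (X hW.good (pRoot hW i) (-((u⁻¹ : Fˣ) : F)) *
        k⁻¹ * b) * nW hW h F v * b' by group]
    exact cell_mul_borel_mem hW h (nR_mul_nW_up hW h hv (mul_mem (mul_mem
      (X_pRoot_mem_borel hW i _) (inv_mem (diag_le_borel D hk))) hb)) hb'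
  have hl := (goesUp_iff hW h i v).1 hv
  rw [cell_eq_of_mem hW h hy hc] at hl
  omega

/-- Every element of the upper cell has a coordinate along `α_i`. -/
theorem exists_coord (hW : GoodWeyl D) (h : Weyl.RootGood C M R) {i : Fin D.rank} {v : M.Group}
    {g : GL D.Idx F} (hg : g ∈ cell hW h F (M.simple i * v)) :
    ∃ t : F, ∃ c ∈ cell hW h F v, g = X hW.good (pRoot hW i) t * nR hW i * c := by
  obtain ⟨b, hb, b', hb', rfl⟩ := hg
  obtain ⟨u, hu, k, hk, rfl⟩ := (mem_borel_iff hW).1 hb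
  obtain ⟨t, v', hv', rfl⟩ := exists_split_pos' hW i hu
  obtain ⟨l, hl, el⟩ := exists_nR_mul_nW (F := F) hW h i v
  have hn := Subgroup.mem_normalizer_iff.1
    (monomial_le_normalizer hW (inv_mem (nR_mem_monomial (F := F) hW i))) k
  refine ⟨t, _, cell_mul_borel_mem hW h (borel_mul_mem_cell hW h (mul_mem
    (pos_le_borel D (rootGen_posCompl_le hW i (nR_inv_conj_posCompl hW i hv')))
    (diag_le_borel D (hn.1 hk))) (nW_mem_cell hW h v))
    (mul_mem (inv_mem (diag_le_borel D hl)) hb'), ?_⟩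
  rw [show nW hW h F (M.simple i * v) = nR hW i * nW hW h F v * l⁻¹ by
    rw [el, mul_inv_cancel_right]]
  group

theorem exists_goesUp_of_ne_one (hW : GoodWeyl D) (h : Weyl.RootGood C M R) {w : M.Group}
    (hw : w ≠ 1) : ∃ i v, w = M.simple i * v ∧ GoesUp hW h i v ∧
      M.toCoxeterSystem.length v < M.toCoxeterSystem.length w := by
  obtain ⟨i, hi⟩ := M.toCoxeterSystem.exists_leftDescent_of_ne_one hw
  rw [CoxeterSystem.isLeftDescent_iff, CoxeterMatrix.toCoxeterSystem_simple] at hi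
  refine ⟨i, M.simple i * w, (simple_mul_cancel_left i w).symm, (goesUp_iff hW h i _).2 ?_,
    by omega⟩
  rw [simple_mul_cancel_left]
  omega

/-- Only the elements of `B` conjugate every `x_p(1)`, `p` fundamental, into `B`. -/
theorem mem_borel_of_conj (hW : GoodWeyl D) (h : Weyl.RootGood C M R) {g : GL D.Idx F}
    (hg : g ∈ D.group F)
    (hc : ∀ i, g⁻¹ * X hW.good (pRoot hW i) 1 * g ∈ D.borelSubgroup F) :
    g ∈ D.borelSubgroup F := by
  obtain ⟨w, hw⟩ := exists_mem_cell hW h hg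
  by_cases hw1 : w = 1
  · subst hw1
    rwa [cell_one hW h] at hw
  exfalso
  obtain ⟨i, v, rfl, hv, -⟩ := exists_goesUp_of_ne_one hW h hw1
  obtain ⟨t, c, hcv, rfl⟩ := exists_coord hW h hw
  have key : X hW.good (pRoot hW i) ((1 : F) + t) * nR hW i * c =
      X hW.good (pRoot hW i) t * nR hW i * (c * ((X hW.good (pRoot hW i) t * nR hW i * c)⁻¹ *
        X hW.good (pRoot hW i) 1 * (X hW.good (pRoot hW i) t * nR hW i * c))) := by
    rw [← X_mul]
    group
  have := coord_unique hW h hv hcv (cell_mul_borel_mem hW h hcv (hc i)) key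
  exact one_ne_zero (add_eq_right.1 this)

end CfsgLib.ChevSubfield
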