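import Cfsg.Agent.ChevSubfield.CellCoord

/-!
Only `1` in a Chevalley group commutes with all `x_r(1)`.
-/

set_option autoImplicit false

namespace CfsgLib.ChevSubfield

open Cfsg.Lie CfsgLib CfsgLib.Chevalley
open scoped MatrixGroups

variable {D : ChevalleyDatum} {F : Type*} [Field F]

/-- Elements of `U_i` raise heights, and do not detect `α_i`. -/
theorem posCompl_entries (hW : GoodWeyl D) (i : Fin D.rank) {u : GL D.Idx F}
    (hu : u ∈ rootGen hW.good F (posCompl hW i)) :
    (∀ a c, a ≠ c → ht D a ≤ ht D c → (u : Matrix D.Idx D.Idx F) a c = 0) ∧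
      ∀ j, (u : Matrix D.Idx D.Idx F) (Sum.inl j) (Sum.inr (pRoot hW i).rev) = 0 := by
  have hp : ht D (Sum.inr (pRoot hW i)) = 2 := by
    have h2 : sgn false * ht D (Sum.inr (pRoot hW i)) = 2 := hW.good.ht_genR false i
    simpa [sgn] using h2
  have gen : ∀ (r : Root D), r ∈ posCompl hW i → ∀ t : F,
      (∀ a c, a ≠ c → ht D a ≤ ht D c → xR D F r t a c = 0) ∧
      ∀ j, xR D F r t (Sum.inl j) (Sum.inr (pRoot hW i).rev) = 0 := by
    intro r hr t
    refine ⟨fun a c hac hle => ?_, fun j => ?_⟩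
    · simp only [xR, Matrix.sum_apply, Matrix.smul_apply, Matrix.map_apply, smul_eq_mul]
      refine Finset.sum_eq_zero fun k _ => ?_
      by_cases hk : E D r k a c = 0
      · simp [hk]
      rcases Nat.eq_zero_or_pos k with rfl | hkpos
      · simp [E_zero, Matrix.one_apply_ne hac] at hk
      have := hW.good.ht_of_E_ne_zero r k hk
      have := (hW.good.pos_iff_ht r).1 hr.1
      exfalso
      nlinarith
    · rw [xR_entry_coroot hW.good, if_neg (fun e => hr.2 (Fin.rev_inj.1 e).symm)]
  induction hu using Subgroup.closure_induction'' with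
  | mem x hx =>
    obtain ⟨r, hr, t, rfl⟩ := hx
    simpa using gen r hr t
  | inv_mem x hx =>
    obtain ⟨r, hr, t, rfl⟩ := hx
    simpa [X_inv] using gen r hr (-t)
  | one => exact ⟨fun a c h _ => Matrix.one_apply_ne h, fun j => Matrix.one_apply_ne (by simp)⟩
  | mul x y _ _ hx hy =>
    refine ⟨fun a c hac hle => ?_, fun j => ?_⟩ <;>
      rw [Units.val_mul, Matrix.mul_apply] <;> refine Finset.sum_eq_zero fun e _ => ?_
    · rcases eq_or_ne a e with rfl | hae
      · rw [hy.1 a c hac hle, mul_zero]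
      rcases eq_or_ne e c with rfl | hec
      · rw [hx.1 a e hac hle, zero_mul]
      rcases le_total (ht D a) (ht D e) with h1 | h1
      · rw [hx.1 a e hae h1, zero_mul]
      · rw [hy.1 e c hec (h1.trans hle), mul_zero]
    · rcases e with j' | v
      · rcases eq_or_ne j j' with rfl | hj
        · rw [hy.2 j, mul_zero]
        · rw [hx.1 _ _ (by simpa using hj) (by simp), zero_mul]
      · rcases eq_or_ne v (pRoot hW i).rev with rfl | hv
        · rw [hx.2 j, zero_mul]
        rcases lt_or_ge (ht D (Sum.inr v)) 0 with hneg | hpos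
        · refine mul_eq_zero_of_right _ (hy.1 _ _ (by simpa using hv) ?_)
          rw [hW.good.ht_rev, hp]
          have hv' : (v : ℕ) < half D := by
            by_contra h'
            have := (hW.good.pos_iff_ht v).1 (Nat.le_of_not_lt h')
            omega
          have := hW.good.onSide_two_le (b := true) (onSide_true_iff.2 hv')
          simp [sgn] at this
          omega
        · exact mul_eq_zero_of_left (hx.1 _ _ (by simp) (by simpa using hpos)) _

/-- A positive unipotent element centralised by all `n_i` and detecting no root is trivial. -/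
theorem eq_one_of_nR_comm (hW : GoodWeyl D) {u : GL D.Idx F}
    (hu : u ∈ D.posUnipotent F) (hcomm : ∀ i, nR hW i * u = u * nR hW i)
    (hp : ∀ i, u ∈ rootGen hW.good F (posCompl hW i)) : u = 1 := by
  have hall : ∀ r : Root D, ∀ j,
      (u : Matrix D.Idx D.Idx F) (Sum.inl j) (Sum.inr r.rev) = 0 := by
    intro r
    refine hW.root_induction (P := fun r => ∀ j,
      (u : Matrix D.Idx D.Idx F) (Sum.inl j) (Sum.inr r.rev) = 0)
      (fun i => (posCompl_entries hW i (hp i)).2) ?_ r
    intro i s hs j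
    have e := congrFun (congrFun (congrArg
      (fun g : GL D.Idx F => (g : Matrix D.Idx D.Idx F)) (hcomm i)) (Sum.inl j)) (Sum.inr s.rev)
    simp only [Units.val_mul, Matrix.mul_apply, Fintype.sum_sum_type, nR_apply, hs, mul_zero,
      zero_mul, Finset.sum_const_zero, mul_ite, zero_add, Finset.sum_ite_eq',
      Finset.mem_univ, if_true, hW.wPerm_rev] at e
    have hne : (eta D i s.rev : F) ≠ 0 := fun h0 => by
      have := congrArg (Int.cast : ℤ → F) (hW.eta_sq i s.rev)
      simp [h0] at this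
    exact (mul_eq_zero.1 e.symm).resolve_right hne
  rw [posUnipotent_eq hW.good] at hu
  suffices H : ∀ k m, half D ≤ m → m + k = D.nroots → ∀ v : GL D.Idx F, v ∈ uGe hW.good F false m →
      (∀ r : Root D, ∀ j, (v : Matrix D.Idx D.Idx F) (Sum.inl j) (Sum.inr r.rev) = 0) → v = 1 by
    have := hW.good.two_half
    exact H (half D) (half D) le_rfl (by omega) u hu hall
  intro k
  induction k with
  | zero =>
    intro m _ hm v hv _
    rwa [uGe_eq_bot _ (by omega), Subgroup.mem_bot] at hv
  | succ k ih =>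
    intro m hm hmk v hv hz
    obtain ⟨t, rfl⟩ := exists_prodFrom hW.toGoodComm (k + 1) m hm hmk v hv
    rw [prodFrom_succ] at hz ⊢
    set r := rootOf hW.good false m
    have hkey : key false r = m := key_rootOf hW.good (by omega)
    have hmem : prodFrom hW.good false t (m + 1) k ∈ uGe hW.good F false (key false r + 1) :=
      hkey ▸ prodFrom_mem hW.good t (by omega) (by omega)
    obtain ⟨j, hj⟩ := hW.toGoodUni.exists_coroot_ne F r
    have := hz r j
    rw [entry_X_mul hW.good (hkey.symm ▸ hm) _ hmem] at this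
    have ht0 : t m = 0 := (mul_eq_zero.1 this).resolve_right hj
    rw [ht0, X_zero, one_mul] at hz ⊢
    exact ih (m + 1) (by omega) (by omega) _ (hkey ▸ hmem) hz

theorem eq_one_of_diag_comm (hW : GoodWeyl D) {g : GL D.Idx F} (hg : g ∈ D.diagonalSubgroup F)
    (hc : ∀ r, g * X hW.good r 1 = X hW.good r 1 * g) : g = 1 := by
  rw [diagonalSubgroup_eq_range hW] at hg
  obtain ⟨c, rfl⟩ := hg
  set d : D.Idx → F := Sum.elim (fun _ => 1)
    fun s => ((∏ k : Fin D.rank, c k ^ D.cartan k s : Fˣ) : F) with hd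
  have hM : ((torHom D F c : GL D.Idx F) : Matrix D.Idx D.Idx F) = Matrix.diagonal d := rfl
  have hd1 : ∀ a, d a = 1 := by
    rintro (j | s)
    · rfl
    obtain ⟨j, hj⟩ := hW.toGoodUni.exists_coroot_ne F s.rev
    have e := congrFun (congrFun (congrArg
      (fun g : GL D.Idx F => (g : Matrix D.Idx D.Idx F)) (hc s.rev)) (Sum.inl j)) (Sum.inr s)
    simp only [Units.val_mul, hM, Matrix.diagonal_mul, Matrix.mul_diagonal, coe_X,
      xR_entry_coroot hW.good, Fin.rev_rev, if_true, one_mul] at e
    rw [show d (Sum.inl j) = 1 from rfl, one_mul] at e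
    exact (mul_right_eq_self₀.1 e.symm).resolve_right hj
  apply Units.ext
  rw [hM, show d = fun _ => 1 from funext hd1, Matrix.diagonal_one]
  rfl

variable {C : Weyl.Cert D.rank} {M : CoxeterMatrix (Fin D.rank)} {R : Weyl.RootTable}

/-- Only `1` commutes with all `x_r(1)`. -/
theorem eq_one_of_comm (hW : GoodWeyl D) (h : Weyl.RootGood C M R) {g : GL D.Idx F}
    (hg : g ∈ D.group F) (hc : ∀ r, g * X hW.good r 1 = X hW.good r 1 * g) : g = 1 := by
  have hc' : ∀ r, g * X hW.good r (-1) = X hW.good r (-1) * g := fun r => by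
    rw [← X_inv]; exact Commute.inv_right (hc r)
  have hn : ∀ i, nR hW i * g = g * nR hW i := fun i =>
    ((Commute.mul_right (Commute.mul_right (hc (pRoot hW i)) (hc' (pRoot hW i).rev))
      (hc (pRoot hW i)))).symm
  have hB : g ∈ D.borelSubgroup F := mem_borel_of_conj hW h hg fun i => by
    rw [mul_assoc, ← hc, inv_mul_cancel_left]
    exact X_pRoot_mem_borel hW i 1
  obtain ⟨u, hu, k, hk, rfl⟩ := (mem_borel_iff hW).1 hB
  have hi : ∀ i, u ∈ rootGen hW.good F (posCompl hW i) ∧ nR hW i * u = u * nR hW i := by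
    intro i
    obtain ⟨v, hv, t, rfl⟩ := exists_split_pos hW i hu
    have hnv : nR hW i * v * (nR hW i)⁻¹ ∈ D.posUnipotent F :=
      rootGen_posCompl_le hW i (nR_conj_posCompl hW i hv)
    have hnk : nR hW i * k * (nR hW i)⁻¹ ∈ D.diagonalSubgroup F :=
      (Subgroup.mem_normalizer_iff.1
        (monomial_le_normalizer hW (nR_mem_monomial (F := F) hW i)) k).1 hk
    have e : nR hW i * v * (nR hW i)⁻¹ *
        (nR hW i * X hW.good (pRoot hW i) t * (nR hW i)⁻¹) *
        (nR hW i * k * (nR hW i)⁻¹) = v * X hW.good (pRoot hW i) t * k := by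
      have := hn i
      calc _ = nR hW i * (v * X hW.good (pRoot hW i) t * k) * (nR hW i)⁻¹ := by group
        _ = _ := by rw [this, mul_inv_cancel_right]
    rw [nR_conj, hW.wPerm_pRoot, hW.eta_pRoot, Int.cast_neg, Int.cast_one, neg_one_mul] at e
    have hmem : X hW.good (pRoot hW i).rev (-t) ∈ D.borelSubgroup F ⊓ D.negUnipotent F := by
      rw [Subgroup.mem_inf]
      refine ⟨?_, X_mem_neg hW.good (pRoot_rev_neg hW i) _⟩
      rw [show X hW.good (pRoot hW i).rev (-t) = (nR hW i * v * (nR hW i)⁻¹)⁻¹ *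
        (v * X hW.good (pRoot hW i) t * k) * (nR hW i * k * (nR hW i)⁻¹)⁻¹ by rw [← e]; group]
      exact mul_mem (mul_mem (inv_mem (pos_le_borel D hnv))
        ((mem_borel_iff hW).2 ⟨_, hu, k, hk, rfl⟩)) (inv_mem (diag_le_borel D hnk))
    rw [borel_inf_neg hW, Subgroup.mem_bot, ← X_zero hW.good (pRoot hW i).rev] at hmem
    have ht : t = 0 := neg_eq_zero.1 (X_injective hW.good _ hmem)
    rw [ht, neg_zero, X_zero, mul_one, X_zero, mul_one] at e
    rw [ht, X_zero, mul_one] at hu ⊢
    refine ⟨hv, ?_⟩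
    have e2 : v⁻¹ * (nR hW i * v * (nR hW i)⁻¹) = k * (nR hW i * k * (nR hW i)⁻¹)⁻¹ := by
      rw [eq_mul_inv_iff_mul_eq, mul_assoc, e, inv_mul_cancel_left]
    have h2 : v⁻¹ * (nR hW i * v * (nR hW i)⁻¹) ∈ D.posUnipotent F ⊓ D.diagonalSubgroup F :=
      Subgroup.mem_inf.2 ⟨mul_mem (inv_mem hu) hnv, e2 ▸ mul_mem hk (inv_mem hnk)⟩
    rw [pos_inf_diag hW, Subgroup.mem_bot, inv_mul_eq_one] at h2
    exact (mul_inv_eq_iff_eq_mul.1 h2.symm)
  have hu1 : u = 1 := eq_one_of_nR_comm hW hu (fun i => (hi i).2) fun i => (hi i).1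
  subst hu1
  simp only [one_mul] at hc ⊢
  exact eq_one_of_diag_comm hW hk hc

end CfsgLib.ChevSubfield
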